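import Cfsg.Prelude.Def_Balance
import Cfsg.Agent.Signalizer.Basic
import Cfsg.Agent.Signalizer.Local
import Cfsg.Agent.KGroup.Terminal
import Cfsg.Agent.KGroup.CharP

/-!
Equivariant solvable signalizer functors on groups with connected rank two commuting graph,
with completeness of solvable signalizer functors as a hypothesis.
-/

set_option autoImplicit false
set_option linter.style.haveILetI false
set_option linter.deprecated false
set_option linter.unusedSectionVars false

namespace CfsgLib.SFTCor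

open Subgroup

universe u

/-- Every solvable signalizer functor of rank at least three on `G` is complete. -/
def AllComplete (p : ℕ) (G : Type u) [Group G] : Prop :=
  ∀ (A : Subgroup G), (∀ a ∈ A, ∀ b ∈ A, a * b = b * a) → (∀ a ∈ A, a ^ p = 1) →
    p ^ 3 ≤ Nat.card A → ∀ θ : G → Subgroup G, (∀ a ∈ A, a ≠ 1 → θ a ≤ centralizer {a}) →
    (∀ a ∈ A, a ≠ 1 → ¬ p ∣ Nat.card (θ a)) →
    (∀ a ∈ A, a ≠ 1 → ∀ b ∈ A, ∀ x ∈ θ a, b * x * b⁻¹ ∈ θ a) →
    (∀ a ∈ A, a ≠ 1 → Group.IsSolvable (θ a)) →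
    (∀ a ∈ A, a ≠ 1 → ∀ b ∈ A, b ≠ 1 → θ a ⊓ centralizer {b} ≤ θ b) →
    ¬ p ∣ Nat.card ↥(⨆ a : {a : G // a ∈ A ∧ a ≠ 1}, θ a) ∧
      ∀ a ∈ A, a ≠ 1 → (⨆ b : {a : G // a ∈ A ∧ a ≠ 1}, θ b) ⊓ centralizer {a} = θ a

variable {G : Type u} [Group G] [Finite G] {p : ℕ} [Fact p.Prime]

/-- Elements of order `p` whose centralizer has `p`-rank at least three. -/
def Good (p : ℕ) (a : G) : Prop :=
  orderOf a = p ∧ ¬ Cfsg.PRankLE p 2 ↥(centralizer ({a} : Set G))

/-- The subgroup generated by the values of `θ` on the non-identity elements of `E`. -/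
def gen (θ : G → Subgroup G) (E : Subgroup G) : Subgroup G :=
  ⨆ a : {a : G // a ∈ E ∧ a ≠ 1}, θ a

theorem good_of_mem {A : Subgroup G} (hA : Cfsg.IsElementaryAbelian p A)
    (hA3 : p ^ 3 ≤ Nat.card A) {a : G} (ha : a ∈ A) (ha1 : a ≠ 1) : Good p a := by
  refine ⟨orderOf_eq_prime (hA.2 a ha) ha1, fun h => ?_⟩
  have hle := Signalizer.le_centralizer_singleton hA ha
  have h1 := h (A.subgroupOf (centralizer {a}))
    ⟨⟨fun x y => Subtype.ext (Subtype.ext (Signalizer.commute hA x.2 y.2))⟩⟩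
    fun x hx => Subtype.ext (by simpa using hA.2 x hx)
  rw [Nat.card_congr (subgroupOfEquivOfLe hle).toEquiv] at h1
  have h2 := Nat.pow_lt_pow_right (Fact.out : p.Prime).one_lt (show 2 < 3 by norm_num)
  omega

/-- An elementary abelian subgroup of order `p ^ 3` above `E` inside its centralizer. -/
theorem exists_big {E : Subgroup G} (hE : Cfsg.IsElementaryAbelian p E)
    (hC : ¬ Cfsg.PRankLE p 2 ↥(centralizer (E : Set G))) :
    ∃ A, E ≤ A ∧ Cfsg.IsElementaryAbelian p A ∧ p ^ 3 ≤ Nat.card A := by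
  simp only [Cfsg.PRankLE, not_forall, not_le] at hC
  obtain ⟨A₀, hA₀, hexp, hcard⟩ := hC
  set A₁ := A₀.map (centralizer (E : Set G)).subtype with hA₁
  have hcE : ∀ x ∈ A₁, ∀ e ∈ E, x * e = e * x := by
    rintro _ ⟨x, hx, rfl⟩ e he
    exact (mem_centralizer_iff.1 x.2 e he).symm
  have h11 : ∀ x ∈ A₁, ∀ y ∈ A₁, x * y = y * x := by
    rintro _ ⟨x, hx, rfl⟩ _ ⟨y, hy, rfl⟩
    exact congrArg (fun t : A₀ => ((t : ↥(centralizer (E : Set G))) : G))
      (hA₀.is_comm.comm ⟨x, hx⟩ ⟨y, hy⟩)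
  have hn : A₁ ≤ normalizer (E : Set G) := by
    refine Signalizer.le_normalizer_of_conj_mem fun x hx e he => ?_
    rwa [hcE x hx e he, mul_inv_cancel_right]
  have hmem : ∀ z ∈ A₁ ⊔ E, ∃ x ∈ A₁, ∃ e ∈ E, z = x * e := by
    intro z hz
    obtain ⟨x, hx, e, he, h⟩ := (CfsgLib.Solvable.mem_sup_of_le_normalizer hn).1 hz
    exact ⟨x, hx, e, he, h.symm⟩
  refine ⟨A₁ ⊔ E, le_sup_right, ⟨⟨⟨fun a b => ?_⟩⟩, fun z hz => ?_⟩, ?_⟩
  · obtain ⟨x, hx, e, he, hxe⟩ := hmem a a.2
    obtain ⟨y, hy, f, hf, hyf⟩ := hmem b b.2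
    have c1 : Commute x y := h11 x hx y hy
    have c2 : Commute x f := hcE x hx f hf
    have c3 : Commute e y := (hcE y hy e he).symm
    have c4 : Commute e f := Signalizer.commute hE he hf
    refine Subtype.ext ?_
    show (a : G) * b = b * a
    rw [hxe, hyf]
    exact ((c1.mul_right c2).mul_left (c3.mul_right c4)).eq
  · obtain ⟨x, hx, e, he, rfl⟩ := hmem z hz
    rw [(show Commute x e from hcE x hx e he).mul_pow, hE.2 e he, mul_one]
    obtain ⟨x', hx', rfl⟩ := hx
    simpa using congrArg Subtype.val (hexp x' hx')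
  · refine le_trans ?_ (Subgroup.card_le_of_le (le_sup_left : A₁ ≤ A₁ ⊔ E))
    rw [hA₁, card_map_of_injective (subtype_injective _)]
    obtain ⟨k, hk⟩ := IsPGroup.iff_card.1 (show IsPGroup p A₀ from fun x =>
      ⟨1, Subtype.ext (by simpa using hexp x x.2)⟩)
    rw [hk] at hcard ⊢
    exact Nat.pow_le_pow_right (Fact.out : p.Prime).pos
      ((Nat.pow_lt_pow_iff_right (Fact.out : p.Prime).one_lt).1 hcard)

section

variable {θ : G → Subgroup G}
  (hθ : ∀ a : G, Good p a → θ a ≤ centralizer ({a} : Set G) ∧ ¬ p ∣ Nat.card ↥(θ a) ∧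
    Group.IsSolvable ↥(θ a))
  (heq : ∀ a g : G, Good p a → θ (g * a * g⁻¹) = (θ a).map (MulAut.conj g).toMonoidHom)
  (hbal : ∀ a b : G, Good p a → Good p b → a * b = b * a → θ a ⊓ centralizer {b} ≤ θ b)
  (hSFT : AllComplete p G)

include hθ heq hbal hSFT

theorem complete {A : Subgroup G} (hA : Cfsg.IsElementaryAbelian p A) (hA3 : p ^ 3 ≤ Nat.card A) :
    ¬ p ∣ Nat.card ↥(gen θ A) ∧ (∀ a ∈ A, a ≠ 1 → gen θ A ⊓ centralizer {a} = θ a) ∧
      A ≤ normalizer (gen θ A : Set G) := by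
  have hg := fun a ha ha1 => good_of_mem hA hA3 (a := a) ha ha1
  have hinv : ∀ a ∈ A, a ≠ 1 → ∀ b ∈ A, ∀ x ∈ θ a, b * x * b⁻¹ ∈ θ a := by
    intro a ha ha1 b hb x hx
    have h := heq a b (hg a ha ha1)
    rw [Signalizer.commute hA hb ha, mul_inv_cancel_right] at h
    exact h.symm ▸ ⟨x, hx, rfl⟩
  obtain ⟨h1, h2⟩ := hSFT A (fun a ha b hb => Signalizer.commute hA ha hb) hA.2 hA3 θ
    (fun a ha ha1 => (hθ a (hg a ha ha1)).1) (fun a ha ha1 => (hθ a (hg a ha ha1)).2.1) hinv
    (fun a ha ha1 => (hθ a (hg a ha ha1)).2.2)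
    (fun a ha ha1 b hb hb1 => hbal a b (hg a ha ha1) (hg b hb hb1) (Signalizer.commute hA ha hb))
  refine ⟨h1, h2, le_trans (le_iInf fun a => ?_) (iInf_normalizer_le_normalizer_iSup _)⟩
  exact Signalizer.le_normalizer_of_conj_mem (hinv a a.2.1 a.2.2)

theorem gen_eq {E A : Subgroup G} (hA : Cfsg.IsElementaryAbelian p A) (hA3 : p ^ 3 ≤ Nat.card A)
    (hEA : E ≤ A) (hE2 : p ^ 2 ≤ Nat.card E) : gen θ E = gen θ A := by
  obtain ⟨h1, h2, h3⟩ := complete hθ heq hbal hSFT hA hA3
  refine le_antisymm (iSup_le fun a => le_iSup_of_le ⟨a, hEA a.2.1, a.2.2⟩ le_rfl) ?_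
  refine Signalizer.le_of_forall_centralizer hA hEA hE2 (hEA.trans h3) h1 fun e he he1 => ?_
  rw [h2 e (hEA he) he1]
  exact le_iSup (fun a : {a : G // a ∈ E ∧ a ≠ 1} => θ a) ⟨e, he, he1⟩

/-- Connectivity forces an equivariant solvable signalizer functor to be trivial. -/
theorem theta_eq_bot (hO : Cfsg.pPrimeCore p G = ⊥) (hconn : Cfsg.IsRankGraphConnected p 2 G)
    {a : G} (ha : Good p a) : θ a = ⊥ := by
  have hvert : ∀ A : Subgroup G, Cfsg.IsElementaryAbelian p A → p ^ 3 ≤ Nat.card A →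
      Cfsg.IsRankGraphVertex p 2 A := by
    intro A hA hA3
    refine ⟨hA, (Nat.pow_le_pow_right (Fact.out : p.Prime).pos (by norm_num)).trans hA3, fun h => ?_⟩
    have hle : A ≤ centralizer (A : Set G) := Signalizer.le_centralizer_of_le hA le_rfl
    have h1 := h (A.subgroupOf (centralizer (A : Set G)))
      ⟨⟨fun x y => Subtype.ext (Subtype.ext (Signalizer.commute hA x.2 y.2))⟩⟩
      fun x hx => Subtype.ext (by simpa using hA.2 x hx)
    rw [Nat.card_congr (subgroupOfEquivOfLe hle).toEquiv] at h1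
    have h2 := Nat.pow_lt_pow_right (Fact.out : p.Prime).one_lt (show 2 < 3 by norm_num)
    omega
  have hstep : ∀ E E' : Subgroup G, Cfsg.IsRankGraphVertex p 2 E → Cfsg.IsRankGraphVertex p 2 E' →
      (∀ x ∈ E, ∀ y ∈ E', x * y = y * x) → gen θ E = gen θ E' := by
    intro E E' hE hE' hc
    rcases eq_or_ne E E' with rfl | hne
    · rfl
    have hn : E ≤ normalizer (E' : Set G) := by
      refine Signalizer.le_normalizer_of_conj_mem fun x hx y hy => ?_
      rwa [hc x hx y hy, mul_inv_cancel_right]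
    have hA : Cfsg.IsElementaryAbelian p (E ⊔ E' : Subgroup G) := by
      refine ⟨⟨⟨fun u v => ?_⟩⟩, fun z hz => ?_⟩
      · obtain ⟨x, hx, e, he, hxe⟩ := (CfsgLib.Solvable.mem_sup_of_le_normalizer hn).1 u.2
        obtain ⟨y, hy, f, hf, hyf⟩ := (CfsgLib.Solvable.mem_sup_of_le_normalizer hn).1 v.2
        have c1 : Commute x y := Signalizer.commute hE.1 hx hy
        have c2 : Commute x f := hc x hx f hf
        have c3 : Commute e y := (hc y hy e he).symm
        have c4 : Commute e f := Signalizer.commute hE'.1 he hf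
        refine Subtype.ext ?_
        show (u : G) * v = v * u
        rw [← hxe, ← hyf]
        exact ((c1.mul_right c2).mul_left (c3.mul_right c4)).eq
      · obtain ⟨x, hx, e, he, rfl⟩ := (CfsgLib.Solvable.mem_sup_of_le_normalizer hn).1 hz
        rw [(show Commute x e from hc x hx e he).mul_pow, hE.1.2 x hx, hE'.1.2 e he, mul_one]
    have hA3 : p ^ 3 ≤ Nat.card ↥(E ⊔ E') := by
      obtain ⟨k, hk⟩ := IsPGroup.iff_card.1 (Signalizer.isPGroup hA)
      rw [hk]
      refine Nat.pow_le_pow_right (Fact.out : p.Prime).pos ?_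
      by_contra hk3
      push Not at hk3
      have h2 : p ^ k ≤ p ^ 2 := Nat.pow_le_pow_right (Fact.out : p.Prime).pos (by omega)
      have e1 : E = E ⊔ E' := eq_of_le_of_card_ge le_sup_left (by rw [hk]; exact h2.trans hE.2.1)
      have e2 : E' = E ⊔ E' := eq_of_le_of_card_ge le_sup_right (by rw [hk]; exact h2.trans hE'.2.1)
      exact hne (e1.trans e2.symm)
    rw [gen_eq hθ heq hbal hSFT hA hA3 le_sup_left hE.2.1,
      gen_eq hθ heq hbal hSFT hA hA3 le_sup_right hE'.2.1]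
  have hconst : ∀ E E' : Subgroup G, Cfsg.IsRankGraphVertex p 2 E → Cfsg.IsRankGraphVertex p 2 E' →
      gen θ E = gen θ E' := by
    intro E E' hE hE'
    induction hconn E E' hE hE' with
    | refl => rfl
    | tail _ hbc ih => exact (ih hbc.1).trans (hstep _ _ hbc.1 hbc.2.1 hbc.2.2)
  -- an elementary abelian subgroup of order at least `p ^ 3` containing `a`
  have hZ : Cfsg.IsElementaryAbelian p (zpowers a) := by
    refine ⟨inferInstance, fun x hx => ?_⟩
    obtain ⟨i, rfl⟩ := mem_zpowers_iff.1 hx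
    rw [← zpow_natCast, ← zpow_mul, mul_comm, zpow_mul, zpow_natCast, ← ha.1,
      pow_orderOf_eq_one, one_zpow]
  obtain ⟨A, haA, hA, hA3⟩ := exists_big hZ (by
    rw [zpowers_eq_closure, centralizer_closure]
    exact ha.2)
  have ha1 : a ≠ 1 := fun h => by
    have := ha.1
    rw [h, orderOf_one] at this
    exact (Fact.out : p.Prime).one_lt.ne this
  have hle : θ a ≤ gen θ A :=
    le_iSup (fun x : {x : G // x ∈ A ∧ x ≠ 1} => θ x) ⟨a, haA (mem_zpowers a), ha1⟩
  have hN : (gen θ A).Normal := by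
    refine ⟨fun x hx g => ?_⟩
    have hg : Cfsg.IsElementaryAbelian p (A.map (MulAut.conj g).toMonoidHom) := by
      refine ⟨⟨⟨?_⟩⟩, ?_⟩
      · rintro ⟨_, u, hu, rfl⟩ ⟨_, v, hv, rfl⟩
        refine Subtype.ext ?_
        show MulAut.conj g u * MulAut.conj g v = MulAut.conj g v * MulAut.conj g u
        rw [← map_mul, ← map_mul, Signalizer.commute hA hu hv]
      · rintro _ ⟨u, hu, rfl⟩
        rw [← map_pow, hA.2 u hu, map_one]
    have hg3 : p ^ 3 ≤ Nat.card ↥(A.map (MulAut.conj g).toMonoidHom) := by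
      rwa [card_map_of_injective (f := (MulAut.conj g).toMonoidHom) (MulAut.conj g).injective]
    have h1 : (gen θ A).map (MulAut.conj g).toMonoidHom ≤ gen θ (A.map (MulAut.conj g).toMonoidHom) := by
      rw [gen, Subgroup.map_iSup]
      refine iSup_le fun b => ?_
      rw [← heq b g (good_of_mem hA hA3 b.2.1 b.2.2)]
      exact le_iSup (fun x : {x : G // x ∈ A.map (MulAut.conj g).toMonoidHom ∧ x ≠ 1} => θ x)
        ⟨g * b * g⁻¹, ⟨b, b.2.1, rfl⟩, fun h => b.2.2 (conj_eq_one_iff.1 h)⟩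
    rw [hconst _ A (hvert _ hg hg3) (hvert A hA hA3)] at h1
    exact h1 ⟨x, hx, rfl⟩
  have hcop : (Nat.card ↥(gen θ A)).Coprime p :=
    (((Fact.out : p.Prime).coprime_iff_not_dvd).2 (complete hθ heq hbal hSFT hA hA3).1).symm
  exact le_bot_iff.1 (hle.trans ((CfsgLib.Solvable.le_pPrimeCore p hN hcop).trans hO.le))

end

/-! ### The functor of `p'`-cores of centralizers -/

theorem centralizerPPrimeCore_conj (a g : G) :
    Cfsg.centralizerPPrimeCore p (g * a * g⁻¹) =
      (Cfsg.centralizerPPrimeCore p a).map (MulAut.conj g).toMonoidHom := by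
  set f := (MulAut.conj g).toMonoidHom
  have hC : (centralizer ({a} : Set G)).map f = centralizer ({g * a * g⁻¹} : Set G) := by
    ext x
    simp only [mem_map, mem_centralizer_singleton_iff]
    constructor
    · rintro ⟨y, hy, rfl⟩
      show g * y * g⁻¹ * (g * a * g⁻¹) = g * a * g⁻¹ * (g * y * g⁻¹)
      rw [show g * y * g⁻¹ * (g * a * g⁻¹) = g * (y * a) * g⁻¹ by group, hy]
      group
    · intro hx
      refine ⟨g⁻¹ * x * g, ?_, show g * (g⁻¹ * x * g) * g⁻¹ = x by group⟩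
      calc g⁻¹ * x * g * a = g⁻¹ * (x * (g * a * g⁻¹)) * g := by group
        _ = g⁻¹ * ((g * a * g⁻¹) * x) * g := by rw [hx]
        _ = a * (g⁻¹ * x * g) := by group
  set e : ↥(centralizer ({a} : Set G)) ≃* ↥(centralizer ({g * a * g⁻¹} : Set G)) :=
    (Subgroup.equivMapOfInjective _ f (MulAut.conj g).injective).trans (MulEquiv.subgroupCongr hC)
  rw [Cfsg.centralizerPPrimeCore, Cfsg.centralizerPPrimeCore, ← CfsgLib.Terminal.map_pPrimeCore e,
    Subgroup.map_map, Subgroup.map_map]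
  rfl

/-- Balance when the target centralizer has trivial `p`-layer. -/
theorem centralizerPPrimeCore_balance {x y : G} (hx : x ^ p = 1) (hxy : x * y = y * x)
    (hL : Cfsg.pLayer p ↥(centralizer ({y} : Set G)) = ⊥) :
    Cfsg.centralizerPPrimeCore p x ⊓ centralizer {y} ≤ Cfsg.centralizerPPrimeCore p y := by
  set H := centralizer ({y} : Set G)
  have hc : centralizer (Cfsg.pCore p (↥H ⧸ Cfsg.pPrimeCore p ↥H) : Set (↥H ⧸ Cfsg.pPrimeCore p ↥H)) ≤
      Cfsg.pCore p (↥H ⧸ Cfsg.pPrimeCore p ↥H) := by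
    have hl : Cfsg.layer (↥H ⧸ Cfsg.pPrimeCore p ↥H) = ⊥ := (CfsgLib.PComp.pLayer_eq_bot_iff p).1 hL
    rw [← CfsgLib.Fitting.fittingSubgroup_eq_pCore (CfsgLib.Fitting.pPrimeCore_quotient_eq_bot p)]
    exact CfsgLib.Comp.centralizer_fitting_le_iff.2 hl
  set D₀ := Cfsg.centralizerPPrimeCore p x ⊓ H
  have hxH : x ∈ H := mem_centralizer_singleton_iff.2 hxy
  set x' : H := ⟨x, hxH⟩
  have hP : IsPGroup p (zpowers x') := by
    rintro ⟨g, hg⟩
    obtain ⟨k, rfl⟩ := mem_zpowers_iff.1 hg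
    refine ⟨1, Subtype.ext ?_⟩
    have hx' : x' ^ p = 1 := Subtype.ext (by simpa [x'] using hx)
    simp only [pow_one, SubgroupClass.coe_pow, OneMemClass.coe_one]
    rw [← zpow_natCast, zpow_comm, zpow_natCast, hx', one_zpow]
  have hc' : ∀ c : H, c ∈ centralizer ((zpowers x' : Subgroup H) : Set H) → (c : G) ∈ centralizer {x} :=
    fun c hc => mem_centralizer_singleton_iff.2
      (congrArg Subtype.val (mem_centralizer_iff.1 hc x' (mem_zpowers x'))).symm
  have hle : D₀.subgroupOf H ≤ Cfsg.pPrimeCore p H := by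
    refine Signalizer.le_pPrimeCore_of_centralizes hc hP ?_ ?_ ?_
    · intro d hd
      have hdx : (d : G) * x = x * d :=
        mem_centralizer_singleton_iff.1 (Signalizer.mem_centralizerPPrimeCore_le hd.1)
      refine mem_centralizer_iff.2 fun z hz => ?_
      obtain ⟨k, rfl⟩ := mem_zpowers_iff.1 hz
      exact ((Commute.zpow_left (show Commute x' d from (Subtype.ext hdx).symm) k).eq)
    · intro c hcc
      have h1 : (c : G) ∈ normalizer (D₀ : Set G) :=
        inf_normalizer_le_normalizer_inf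
          (mem_inf.2 ⟨Signalizer.centralizer_le_normalizer_centralizerPPrimeCore x (hc' c hcc),
            le_normalizer c.2⟩)
      rw [mem_normalizer_iff]
      intro d
      simpa [mem_subgroupOf] using mem_normalizer_iff.1 h1 (d : G)
    · rw [Nat.card_congr (subgroupOfEquivOfLe (inf_le_right : D₀ ≤ H)).toEquiv]
      exact (Signalizer.coprime_card_centralizerPPrimeCore x).coprime_dvd_left
        (card_dvd_of_le inf_le_left)
  intro d hd
  exact ⟨⟨d, hd.2⟩, hle (show (⟨d, hd.2⟩ : H) ∈ D₀.subgroupOf H from hd), rfl⟩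

/-- Trivial `p`-layers and solvable cores give characteristic `p` centralizers. -/
theorem generalizedFitting_eq_pCore (hSFT : AllComplete p G) (hO : Cfsg.pPrimeCore p G = ⊥)
    (hconn : Cfsg.IsRankGraphConnected p 2 G)
    (hL : ∀ a : G, Good p a → Cfsg.pLayer p ↥(centralizer ({a} : Set G)) = ⊥ ∧
      Group.IsSolvable ↥(Cfsg.centralizerPPrimeCore p a)) {a : G} (ha : Good p a) :
    Cfsg.generalizedFittingSubgroup ↥(centralizer ({a} : Set G)) =
      Cfsg.pCore p ↥(centralizer ({a} : Set G)) := by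
  have h1 := theta_eq_bot (θ := fun x => Cfsg.centralizerPPrimeCore p x)
    (fun b hb => ⟨Signalizer.mem_centralizerPPrimeCore_le,
      ((Fact.out : p.Prime).coprime_iff_not_dvd).1
        (Signalizer.coprime_card_centralizerPPrimeCore b).symm, (hL b hb).2⟩)
    (fun b g _ => centralizerPPrimeCore_conj b g)
    (fun b c hb hc hbc => centralizerPPrimeCore_balance
      (by rw [← hb.1, pow_orderOf_eq_one]) hbc (hL c hc).1) hSFT hO hconn ha
  have h2 : Cfsg.pPrimeCore p ↥(centralizer ({a} : Set G)) = ⊥ :=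
    (Subgroup.map_eq_bot_iff_of_injective _ (subtype_injective _)).1 h1
  refine CfsgLib.CharP.Fstar_eq_pCore ?_ h2
  have hl := (CfsgLib.PComp.pLayer_eq_bot_iff p).1 (hL a ha).1
  set C := ↥(centralizer ({a} : Set G))
  have e : Cfsg.layer C = ⊥ := by
    set f := QuotientGroup.mk' (Cfsg.pPrimeCore p C)
    have hinj : Function.Injective f := by
      rw [← MonoidHom.ker_eq_bot_iff, QuotientGroup.ker_mk', h2]
    have h3 := CfsgLib.Comp.map_layer (MulEquiv.ofBijective f ⟨hinj, QuotientGroup.mk'_surjective _⟩)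
    rw [hl] at h3
    exact (Subgroup.map_eq_bot_iff_of_injective _ (MulEquiv.injective _)).1 h3
  exact e

end CfsgLib.SFTCor
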