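import Mathlib.GroupTheory.Nilpotent
import Mathlib.Order.OrderIsoNat

/-!
Iterated nilpotent residuals of a subgroup, and their relation to nilpotent chains.
-/

set_option autoImplicit false
set_option linter.style.haveILetI false

namespace CfsgLib.SFTCor

open Subgroup

variable {G : Type*} [Group G]

/-- The nilpotent residual of a subgroup, computed in the ambient group. -/
def nres (H : Subgroup G) : Subgroup G := ⨅ k, H.lowerCentralSeries k

theorem nres_le_lcs (H : Subgroup G) (k : ℕ) : nres H ≤ H.lowerCentralSeries k := iInf_le _ k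

theorem nres_le (H : Subgroup G) : nres H ≤ H :=
  (nres_le_lcs H 0).trans (by simp)

theorem nres_mono : Monotone (nres (G := G)) := fun _ _ h =>
  iInf_mono fun k => Subgroup.lowerCentralSeries_mono k h

theorem exists_lcs_eq_nres [Finite G] (H : Subgroup G) :
    ∃ k, ∀ j, k ≤ j → H.lowerCentralSeries j = nres H := by
  obtain ⟨k, hk⟩ := WellFoundedLT.antitone_chain_condition H.lowerCentralSeries_antitone
  refine ⟨k, fun j hj => le_antisymm (le_iInf fun i => ?_) (nres_le_lcs H j)⟩
  rcases le_total k i with hi | hi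
  · rw [← hk i hi, hk j hj]
  · exact (hk j hj).symm.le.trans (H.lowerCentralSeries_antitone hi)

theorem nres_eq_bot_of_lcs {H : Subgroup G} {k : ℕ} (h : H.lowerCentralSeries k = ⊥) :
    nres H = ⊥ := le_bot_iff.1 (h ▸ nres_le_lcs H k)

theorem isNilpotent_of_nres [Finite G] {H : Subgroup G} (h : nres H = ⊥) :
    Group.IsNilpotent H := by
  obtain ⟨k, hk⟩ := exists_lcs_eq_nres H
  exact Subgroup.isNilpotent_of_lowerCentralSeries_eq_bot ((hk k le_rfl).trans h)

theorem nres_map {K : Type*} [Group K] [Finite G] (f : G →* K) (H : Subgroup G) :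
    (nres H).map f = nres (H.map f) := by
  obtain ⟨k, hk⟩ := exists_lcs_eq_nres H
  refine le_antisymm (le_iInf fun i => ?_) ?_
  · rw [← Subgroup.map_lowerCentralSeries]
    exact Subgroup.map_mono (nres_le_lcs H i)
  · rw [← hk k le_rfl, Subgroup.map_lowerCentralSeries]
    exact nres_le_lcs _ k

instance nres_normal (H : Subgroup G) [H.Normal] : (nres H).Normal :=
  Subgroup.normal_iInf_normal fun _ => inferInstance

theorem iter_le (H : Subgroup G) : ∀ i, nres^[i] H ≤ H
  | 0 => le_rfl
  | i + 1 => by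
    rw [Function.iterate_succ_apply']
    exact (nres_le _).trans (iter_le H i)

theorem iter_mono (i : ℕ) : Monotone (nres (G := G))^[i] := nres_mono.iterate i

theorem iter_map {K : Type*} [Group K] [Finite G] (f : G →* K) (H : Subgroup G) :
    ∀ i, (nres^[i] H).map f = nres^[i] (H.map f)
  | 0 => rfl
  | i + 1 => by
    rw [Function.iterate_succ_apply', Function.iterate_succ_apply', nres_map, iter_map f H i]

theorem iter_normal (H : Subgroup G) [H.Normal] : ∀ i, (nres^[i] H).Normal
  | 0 => inferInstanceAs H.Normal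
  | i + 1 => by
    haveI := iter_normal H i
    rw [Function.iterate_succ_apply']
    infer_instance

/-- A chain with nilpotent factors of length `n` kills the `n`-th iterated residual. -/
theorem iter_eq_bot_of_chain {n : ℕ} (F : Fin (n + 1) → Subgroup G) (h0 : F 0 = ⊥)
    (hn : F (Fin.last n) = ⊤)
    (hstep : ∀ i : Fin n, ∃ k : ℕ, (F i.succ).lowerCentralSeries k ≤ F i.castSucc) :
    nres^[n] (⊤ : Subgroup G) = ⊥ := by
  have key : ∀ i, (hi : i ≤ n) → nres^[i] (⊤ : Subgroup G) ≤ F ⟨n - i, by omega⟩ := by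
    intro i
    induction i with
    | zero =>
      intro _
      exact le_of_eq hn.symm
    | succ i ih =>
      intro hi
      rw [Function.iterate_succ_apply']
      obtain ⟨k, hk⟩ := hstep ⟨n - (i + 1), by omega⟩
      have e : (⟨n - (i + 1), by omega⟩ : Fin n).succ = ⟨n - i, by omega⟩ :=
        Fin.ext (show n - (i + 1) + 1 = n - i by omega)
      rw [e] at hk
      exact ((nres_le_lcs _ k).trans
        (Subgroup.lowerCentralSeries_mono k (ih (by omega)))).trans hk
  have h := key n le_rfl
  have e : (⟨n - n, by omega⟩ : Fin (n + 1)) = 0 := Fin.ext (show n - n = 0 by omega)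
  rw [e, h0] at h
  exact le_bot_iff.1 h

/-- Conversely the iterated residuals form such a chain of normal subgroups. -/
theorem exists_chain [Finite G] {n : ℕ} (h : nres^[n] (⊤ : Subgroup G) = ⊥) :
    ∃ F : Fin (n + 1) → Subgroup G, F 0 = ⊥ ∧ F (Fin.last n) = ⊤ ∧ Monotone F ∧
      (∀ i, (F i).Normal) ∧
      ∀ i : Fin n, ∃ k : ℕ, (F i.succ).lowerCentralSeries k ≤ F i.castSucc := by
  refine ⟨fun i => nres^[n - (i : ℕ)] (⊤ : Subgroup G), ?_, ?_, ?_, ?_, ?_⟩
  · simpa using h
  · simp
  · intro i j hij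
    have hij' : (i : ℕ) ≤ j := hij
    show nres^[n - (i : ℕ)] (⊤ : Subgroup G) ≤ nres^[n - (j : ℕ)] ⊤
    rw [show n - (i : ℕ) = ((j : ℕ) - i) + (n - j) by have := j.isLt; omega,
      Function.iterate_add_apply]
    exact iter_le _ _
  · intro i
    exact iter_normal _ _
  · intro i
    obtain ⟨k, hk⟩ := exists_lcs_eq_nres (nres^[n - ((i : ℕ) + 1)] (⊤ : Subgroup G))
    refine ⟨k, ?_⟩
    show (nres^[n - (i.succ : ℕ)] (⊤ : Subgroup G)).lowerCentralSeries k ≤
      nres^[n - (i.castSucc : ℕ)] ⊤
    have e : n - (i : ℕ) = (n - ((i : ℕ) + 1)) + 1 := by have := i.isLt; omega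
    rw [Fin.val_succ, Fin.val_castSucc, hk k le_rfl, e, Function.iterate_succ_apply']

end CfsgLib.SFTCor
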